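import Groth.Agent.Lib.ThickAff3.BaseChange

/-!
# A scheme over an affine base is affine if it is so modulo a nilpotent ideal
-/

set_option autoImplicit false

universe u

open AlgebraicGeometry CategoryTheory Limits

namespace Groth.Agent.SubLift20

open ThickAff3

/-- A scheme over `Spec A` is affine as soon as its reduction along a surjection with nilpotent kernel is. -/
theorem isAffine_of_isPullback {A B : Type u} [CommRing A] [CommRing B] (e : A →+* B) (he : Function.Surjective e)
    {n : ℕ} (hn : RingHom.ker e ^ n = ⊥) {X X' : Scheme.{u}} {i : X ⟶ X'}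
    {f : X ⟶ Spec (CommRingCat.of B)} {g : X' ⟶ Spec (CommRingCat.of A)}
    (hsq : IsPullback i f g (Spec.map (CommRingCat.ofHom e))) [IsAffine X] : IsAffine X' := by
  have : IsClosedImmersion (Spec.map (CommRingCat.ofHom e)) :=
    IsClosedImmersion.spec_of_surjective _ he
  have hsurj : Surjective (Spec.map (CommRingCat.ofHom e)) := by
    refine ⟨fun (p : PrimeSpectrum A) => ?_⟩
    have hr := range_comap_of_surjective B e he
    have hp : p ∈ Set.range (PrimeSpectrum.comap e) := by
      rw [hr, PrimeSpectrum.mem_zeroLocus]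
      intro x hx
      refine p.2.mem_of_pow_mem n ?_
      have h := Ideal.pow_mem_pow hx n
      rw [hn, Ideal.mem_bot] at h
      rw [h]; exact p.1.zero_mem
    exact hp
  have : IsClosedImmersion i := MorphismProperty.of_isPullback hsq.flip ‹_›
  have : Surjective i := MorphismProperty.of_isPullback hsq.flip hsurj
  refine isAffine_of_nilpotent_thickening i n fun U => ?_
  let bT := (Spec.map (CommRingCat.ofHom e)).appLE ⊤ ⊤ le_top
  have hpo := FlatH4.isPushout_sections (UY := i ⁻¹ᵁ U.1) hsq (US := ⊤) (UT := ⊤) le_top (UX := U.1) le_top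
    (by simp) (isAffineOpen_top _) (isAffineOpen_top _) U.2
  have hbT : bT = (Scheme.ΓSpecIso (CommRingCat.of A)).hom ≫ CommRingCat.ofHom e ≫
      (Scheme.ΓSpecIso (CommRingCat.of B)).inv := by
    rw [← Scheme.ΓSpecIso_naturality_assoc, Iso.hom_inv_id, Category.comp_id]
    simp [bT, Scheme.Hom.appLE, Scheme.Hom.appTop]
  have hb : Function.Surjective bT := by
    rw [hbT]
    exact ((Scheme.ΓSpecIso (CommRingCat.of B)).commRingCatIsoToRingEquiv.symm.surjective.comp
      (he.comp (Scheme.ΓSpecIso (CommRingCat.of A)).commRingCatIsoToRingEquiv.surjective))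
  have hnil : RingHom.ker bT.hom ^ n = ⊥ := by
    have h1 : RingHom.ker bT.hom = (RingHom.ker e).comap (Scheme.ΓSpecIso (CommRingCat.of A)).hom.hom := by
      ext x
      rw [hbT]
      simp only [RingHom.mem_ker, Ideal.mem_comap, CommRingCat.hom_comp, RingHom.comp_apply]
      exact map_eq_zero_iff _ (Scheme.ΓSpecIso (CommRingCat.of B)).commRingCatIsoToRingEquiv.symm.injective
    have hinj : Function.Injective (Scheme.ΓSpecIso (CommRingCat.of A)).hom.hom :=
      (Scheme.ΓSpecIso (CommRingCat.of A)).commRingCatIsoToRingEquiv.injective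
    rw [← Ideal.map_eq_bot_iff_of_injective hinj, Ideal.map_pow]
    exact eq_bot_iff.2 ((Ideal.pow_right_mono (h1 ▸ Ideal.map_comap_le) n).trans hn.le)
  have hle : RingHom.ker (i.app U.1).hom ≤ (RingHom.ker bT.hom).map (g.appLE ⊤ U.1 le_top).hom := by
    intro x hx
    have h2 := ker_le_map_of_isPushout hpo hb
    refine h2 ?_
    rw [RingHom.mem_ker, Scheme.Hom.appLE, CommRingCat.hom_comp, RingHom.comp_apply,
      show (i.app U.1).hom x = 0 from hx, map_zero]
  refine eq_bot_iff.2 ((Ideal.pow_right_mono hle n).trans ?_)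
  rw [← Ideal.map_pow, hnil, Ideal.map_bot]

end Groth.Agent.SubLift20
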