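import Groth.Agent.Lib.MTRigid29.SubgrpLift
import Groth.Agent.Lib.MTRigid29.MonoClosedGlobal
import Groth.Agent.Lib.MTRigid29.IsotrivialNormal
import Groth.Agent.Lib.MultType.FlatLift
import Groth.Agent.Lib.PtSect28.Basic
import Mathlib.RingTheory.Smooth.Fiber

/-!
# Flat square-zero deformations of smooth algebras
-/

set_option autoImplicit false
set_option linter.style.haveILetI false

universe u

open CategoryTheory AlgebraicGeometry
open scoped TensorProduct

noncomputable section

namespace Groth.Agent.SubLift20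

open MTRigid29

variable {R : Type u} [CommRing R] (J : Ideal R) {A : Type u} [CommRing A] [Algebra R A]

/-- Finite type modulo a nilpotent ideal implies finite type. -/
theorem finiteType_of_mod (hJ : IsNilpotent J) (h : Algebra.FiniteType (R ⧸ J) ((R ⧸ J) ⊗[R] A)) :
    Algebra.FiniteType R A := by
  haveI := h
  haveI : Algebra.FiniteType R (R ⧸ J) := inferInstance
  haveI : Algebra.FiniteType R ((R ⧸ J) ⊗[R] A) := Algebra.FiniteType.trans ‹Algebra.FiniteType R (R ⧸ J)› h
  haveI : Algebra.FiniteType R (A ⧸ J.map (algebraMap R A)) :=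
    Algebra.FiniteType.equiv ‹_› ((Algebra.TensorProduct.quotIdealMapEquivQuotTensor A J).symm.restrictScalars R)
  exact PtSect28.finiteType_of_nilpotent J hJ

/-- A flat finitely presented algebra which is smooth modulo a nilpotent ideal is smooth. -/
theorem smooth_of_mod (hJ : IsNilpotent J) [Module.Flat R A] [Algebra.FinitePresentation R A]
    (h : Algebra.Smooth (R ⧸ J) ((R ⧸ J) ⊗[R] A)) : Algebra.Smooth R A := by
  refine Algebra.Smooth.of_formallySmooth_fiber fun p _ => ?_
  have hp : J ≤ p := fun x hx => by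
    obtain ⟨n, hn⟩ := hJ
    refine ‹p.IsPrime›.mem_of_pow_mem n ?_
    have := Ideal.pow_mem_pow hx n
    rw [hn, Ideal.zero_eq_bot, Ideal.mem_bot] at this
    rw [this]; exact p.zero_mem
  letI : Algebra (R ⧸ J) p.ResidueField :=
    (Ideal.Quotient.lift J (algebraMap R p.ResidueField) fun x hx =>
      Ideal.algebraMap_residueField_eq_zero.2 (hp hx)).toAlgebra
  haveI : IsScalarTower R (R ⧸ J) p.ResidueField := IsScalarTower.of_algebraMap_eq fun _ => rfl
  haveI := h
  haveI : Algebra.FormallySmooth p.ResidueField (p.ResidueField ⊗[R ⧸ J] ((R ⧸ J) ⊗[R] A)) := inferInstance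
  exact Algebra.FormallySmooth.of_equiv
    (Algebra.TensorProduct.cancelBaseChange R (R ⧸ J) p.ResidueField p.ResidueField A)

variable {J}

/-- A smooth flat algebra is determined among flat deformations by its reduction modulo a square-zero ideal. -/
theorem exists_algEquiv_lift (hJ : J ^ 2 = ⊥) [Algebra.Smooth R A] [Module.Flat R A] {B : Type u} [CommRing B]
    [Algebra R B] [Module.Flat R B] (ψ : (R ⧸ J) ⊗[R] A ≃ₐ[R ⧸ J] (R ⧸ J) ⊗[R] B) :
    ∃ φ : A ≃ₐ[R] B, ∀ a, (1 : R ⧸ J) ⊗ₜ[R] φ a = ψ ((1 : R ⧸ J) ⊗ₜ[R] a) := by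
  let π : B →ₐ[R] (R ⧸ J) ⊗[R] B := Algebra.TensorProduct.includeRight
  have hs : Function.Surjective π := surjective_includeRight J B
  have hk : IsNilpotent (RingHom.ker (π : B →+* (R ⧸ J) ⊗[R] B)) := ⟨2, by
    rw [ker_includeRight, ← Ideal.map_pow, hJ, Ideal.map_bot, Ideal.zero_eq_bot]⟩
  let g : A →ₐ[R] (R ⧸ J) ⊗[R] B := (ψ.restrictScalars R).toAlgHom.comp Algebra.TensorProduct.includeRight
  let φ : A →ₐ[R] B := Algebra.FormallySmooth.liftOfSurjective g π hs hk
  have hφ : ∀ a, (1 : R ⧸ J) ⊗ₜ[R] φ a = ψ ((1 : R ⧸ J) ⊗ₜ[R] a) := fun a =>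
    DFunLike.congr_fun (Algebra.FormallySmooth.comp_liftOfSurjective g π hs hk) a
  have hb : Function.Bijective φ := by
    refine MultTypeLib.bijective_of_mod_nilpotent (I := J) ⟨2, hJ⟩ φ.toLinearMap ?_
    have h : ⇑(φ.toLinearMap.lTensor (R ⧸ J)) = ⇑ψ := by
      funext z
      induction z using TensorProduct.induction_on with
      | zero => simp
      | tmul q a =>
        obtain ⟨r, rfl⟩ := Ideal.Quotient.mk_surjective q
        have e : ∀ (C : Type u) [CommRing C] [Algebra R C] (c : C),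
            (Ideal.Quotient.mk J r) ⊗ₜ[R] c = (Ideal.Quotient.mk J r) • ((1 : R ⧸ J) ⊗ₜ[R] c) := fun C _ _ c => by
          rw [TensorProduct.smul_tmul', smul_eq_mul, mul_one]
        rw [LinearMap.lTensor_tmul, e, e A, map_smul]
        exact congrArg _ (hφ a)
      | add x y hx hy => simp [hx, hy]
    rw [h]; exact ψ.bijective
  exact ⟨AlgEquiv.ofBijective φ hb, hφ⟩

end Groth.Agent.SubLift20
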