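import Groth.Agent.Lib.SubLift20.Alg

/-!
# Subgroups of multiplicative type lift as soon as they lift as flat subschemes
-/

set_option autoImplicit false
set_option linter.style.haveILetI false
set_option backward.isDefEq.respectTransparency.types false
set_option synthInstance.maxHeartbeats 400000
set_option maxSynthPendingDepth 3

universe u

open CategoryTheory Limits MonoidalCategory CartesianMonoidalCategory MonObj AlgebraicGeometry
open scoped TensorProduct
open WithConv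

noncomputable section

namespace Groth.Agent.SubLift20

open DiagGL MTRigid29

variable {R : Type u} [CommRing R]

/-- A morphism of affine schemes over `R` comes from an algebra homomorphism. -/
theorem exists_algHom {S X Y : Type u} [CommRing S] [CommRing X] [Algebra S X] [CommRing Y] [Algebra S Y]
    (k : CoactBr.sp S X ⟶ CoactBr.sp S Y) : ∃ f : Y →ₐ[S] X, CoactBr.pt f = k := by
  let φ : CommRingCat.of Y ⟶ CommRingCat.of X := Spec.preimage k.left
  have hφ : Spec.map φ = k.left := Spec.map_preimage _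
  have hc : φ.hom.comp (algebraMap S Y) = algebraMap S X := by
    have h : Spec.map φ ≫ Spec.map (CommRingCat.ofHom (algebraMap S Y)) =
        Spec.map (CommRingCat.ofHom (algebraMap S X)) := by rw [hφ]; exact Over.w k
    rw [← Spec.map_comp] at h
    exact congrArg CommRingCat.Hom.hom (Spec.map_injective h)
  exact ⟨⟨φ.hom, fun r => DFunLike.congr_fun hc r⟩, Over.OverMorphism.ext hφ⟩

/-- An isomorphism of affine schemes over `R` comes from an isomorphism of algebras. -/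
theorem exists_algEquiv {S X Y : Type u} [CommRing S] [CommRing X] [Algebra S X] [CommRing Y] [Algebra S Y]
    (k : CoactBr.sp S X ≅ CoactBr.sp S Y) :
    ∃ f : Y ≃ₐ[S] X, CoactBr.pt (f : Y →ₐ[S] X) = k.hom ∧ CoactBr.pt (f.symm : X →ₐ[S] Y) = k.inv := by
  obtain ⟨f, hf⟩ := exists_algHom k.hom
  obtain ⟨g, hg⟩ := exists_algHom k.inv
  have h₁ : f.comp g = AlgHom.id S X := CoactBr.pt_injective (by
    rw [CoactBr.pt_comp, CoactBr.pt_id, hf, hg, k.hom_inv_id])
  have h₂ : g.comp f = AlgHom.id S Y := CoactBr.pt_injective (by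
    rw [CoactBr.pt_comp, CoactBr.pt_id, hf, hg, k.inv_hom_id])
  exact ⟨AlgEquiv.ofAlgHom f g h₁ h₂, hf, hg⟩

variable {A : Type u} [CommRing A] [HopfAlgebra R A] {G : Over (Spec (CommRingCat.of R))} [GrpObj G]

set_option maxHeartbeats 800000 in
/-- A point which is a homomorphism modulo a square-zero ideal is congruent to a homomorphism. -/
theorem exists_monHom_of_point {j : A →ₗ[R] R} (hj : MultTypeLib.IsInt j) {J : Ideal R} (hJ : J * J = ⊥)
    (u : Pts G A) (hu : IsHom J (pmap (gen J) u)) :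
    ∃ (w : CoactBr.sp R A ⟶ G) (_ : IsMonHom w), pmap (gen J) w = pmap (gen J) u := by
  have hred : (red (A := A) (bot_le : (⊥ : Ideal R) ≤ J)).comp (gen ⊥) = gen J :=
    AlgHom.ext fun a => by simp [red, gen]
  obtain ⟨z, hz, hzu⟩ := exists_hom_step (⊥ : Ideal R) hj hJ.le bot_le (pmap (gen ⊥) u)
    (by rwa [pmap_pmap, hred])
  rw [pmap_pmap, hred] at hzu
  obtain ⟨σ, l, hl1, hl2⟩ := exists_collapse (A := A) (L := (⊥ : Ideal R)) rfl
  let l₂ : CC A (⊥ : Ideal R) →ₐ[R] A ⊗[R] A :=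
    Algebra.TensorProduct.lift ((Algebra.ofId R (A ⊗[R] A)).comp σ) (AlgHom.id R (A ⊗[R] A)) fun _ _ => .all _ _
  have hl1' : ∀ a, l ((1 : R ⧸ (⊥ : Ideal R)) ⊗ₜ[R] a) = a := fun a => DFunLike.congr_fun hl1 a
  have cΔ : l₂.comp (iΔ (⊥ : Ideal R)) = (Bialgebra.comulAlgHom R A).comp l :=
    Algebra.TensorProduct.ext (Ideal.Quotient.algHom_ext _ (Subsingleton.elim _ _))
      (AlgHom.ext fun a => by simp [l₂, iΔ, hl1', ← Algebra.TensorProduct.one_def])
  have c1 : l₂.comp (i₁ (⊥ : Ideal R)) = (Algebra.TensorProduct.includeLeft (S := R)).comp l :=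
    Algebra.TensorProduct.ext (Ideal.Quotient.algHom_ext _ (Subsingleton.elim _ _))
      (AlgHom.ext fun a => by simp [l₂, i₁, hl1'])
  have c2 : l₂.comp (i₂ (⊥ : Ideal R)) = Algebra.TensorProduct.includeRight.comp l :=
    Algebra.TensorProduct.ext (Ideal.Quotient.algHom_ext _ (Subsingleton.elim _ _))
      (AlgHom.ext fun a => by simp [l₂, i₂, hl1'])
  have hmul : pmap (Bialgebra.comulAlgHom R A) (pmap l z) =
      pmap (Algebra.TensorProduct.includeLeft (S := R) : A →ₐ[R] A ⊗[R] A) (pmap l z) *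
        pmap Algebra.TensorProduct.includeRight (pmap l z) := by
    simp only [pmap_pmap, ← cΔ, ← c1, ← c2]
    rw [← pmap_pmap, hz, map_mul, pmap_pmap, pmap_pmap]
  set ζ : CoactBr.sp R A ⟶ G := pmap l z with hζ
  haveI : IsMonHom ζ := by
    refine TorsorSch25.isMonHom_of_points ζ fun T a b => ?_
    obtain ⟨P, hP1, hP2⟩ := exists_pairMor R A A
    have hu : (fst _ _ * snd _ _ : CoactBr.sp R A ⊗ CoactBr.sp R A ⟶ CoactBr.sp R A) ≫ ζ =
        (fst _ _ ≫ ζ) * (snd _ _ ≫ ζ) := by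
      rw [← hP1, ← hP2, ← MonObj.comp_mul, CoactBr.pt_mul_pt, Category.assoc, Category.assoc, Category.assoc,
        ← MonObj.comp_mul]
      refine congrArg (P ≫ ·) ?_
      rw [show Algebra.TensorProduct.lift (Algebra.TensorProduct.includeLeft (S := R) : A →ₐ[R] A ⊗[R] A)
        Algebra.TensorProduct.includeRight (fun _ _ => .all _ _) = AlgHom.id R _ from
        Algebra.TensorProduct.ext (by ext; simp) (by ext; simp), AlgHom.id_comp]
      exact hmul
    have := congrArg (lift a b ≫ ·) hu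
    simpa only [MonObj.comp_mul, ← Category.assoc, lift_fst, lift_snd] using this
  refine ⟨ζ, inferInstance, ?_⟩
  rw [hζ, pmap_pmap, ← hzu]
  refine congrArg (fun f => pmap f z) ?_
  exact Algebra.TensorProduct.ext (Ideal.Quotient.algHom_ext _ (Subsingleton.elim _ _))
    (AlgHom.ext fun a => by simp [red, gen, hl1'])

set_option maxHeartbeats 1600000 in
/-- A smooth subgroup of multiplicative type of the reduction modulo a square-zero ideal which lifts as a flat
affine subscheme lifts as a subgroup of multiplicative type. -/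
theorem exists_subgroup_lift_of_flat (J : Ideal R) (hJ : J ^ 2 = ⊥) (G : Over (Spec (CommRingCat.of R))) [GrpObj G]
    (H₀ : Over (Spec (CommRingCat.of (R ⧸ J)))) [GrpObj H₀] (hH₀ : IsMT H₀) [Smooth H₀.hom]
    (j₀ : H₀ ⟶ Red.bc (Spec.map (CommRingCat.ofHom (Ideal.Quotient.mk J))) G) [IsMonHom j₀] [IsImmersion j₀.left]
    (B : Type u) [CommRing B] [Algebra R B] [Module.Flat R B] (u : CoactBr.sp R B ⟶ G)
    (i₀ : CoactBr.sp (R ⧸ J) ((R ⧸ J) ⊗[R] B) ≅ H₀)
    (hi₀ : i₀.hom.left ≫ j₀.left ≫ pullback.fst G.hom (Spec.map (CommRingCat.ofHom (Ideal.Quotient.mk J))) =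
      Spec.map (CommRingCat.ofHom ((Algebra.TensorProduct.includeRight : B →ₐ[R] (R ⧸ J) ⊗[R] B) :
        B →+* (R ⧸ J) ⊗[R] B)) ≫ u.left) :
    ∃ (H : Over (Spec (CommRingCat.of R))) (_ : GrpObj H) (j : H ⟶ G), IsMonHom j ∧ Mono j ∧ IsImmersion j.left ∧
      SGA3x.IsMultTypeFT H ∧ ∃ φ : Red.bc (Spec.map (CommRingCat.ofHom (Ideal.Quotient.mk J))) H ≅ H₀,
        φ.hom ≫ j₀ = (Over.pullback (Spec.map (CommRingCat.ofHom (Ideal.Quotient.mk J)))).map j := by
  obtain ⟨A₀, _, _, -, -, hsplit, ⟨eG⟩⟩ := exists_model_split hH₀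
  have hnil : IsNilpotent J := ⟨2, hJ⟩
  let e₀ : CoactBr.sp (R ⧸ J) A₀ ≅ H₀ :=
    ⟨eG.hom.hom.hom, eG.inv.hom.hom, by rw [← Mon.comp_hom', ← Grp.comp', eG.hom_inv_id]; rfl,
      by rw [← Mon.comp_hom', ← Grp.comp', eG.inv_hom_id]; rfl⟩
  haveI : IsMonHom e₀.hom := eG.hom.hom.isMonHom_hom
  haveI : IsIso e₀.hom.left := inferInstanceAs (IsIso ((Over.forget _).map e₀.hom))
  haveI hsm₀ : Smooth (CoactBr.sp (R ⧸ J) A₀).hom := by
    rw [← Over.w e₀.hom]
    infer_instance
  have hft : Algebra.FiniteType (R ⧸ J) A₀ := by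
    have h : LocallyOfFiniteType (CoactBr.sp (R ⧸ J) A₀).hom := inferInstance
    exact RingHom.finiteType_algebraMap.1 ((HasRingHomProperty.Spec_iff (P := @LocallyOfFiniteType)).1 h)
  obtain ⟨A, _, _, hqi, ⟨E⟩⟩ := Groth.Agent.S2979.result R J
    (fun x hx => by
      refine ⟨2, ?_⟩
      have h := Ideal.pow_mem_pow hx 2
      rwa [hJ, Submodule.mem_bot] at h) A₀
    (Groth.Agent.S2973.result (R ⧸ J) A₀ hft (isMultType_of_isSplit hsplit))
  have hMT := MultTypeLib.isMultType_of_isQuasiIsotrivial hqi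
  haveI hflat := MTRigid29.flat_of_isMultType hMT
  obtain ⟨j, hj⟩ := MultTypeLib.exists_isInt_of_isMultType hMT
  haveI : Algebra.FiniteType R A :=
    finiteType_of_mod J hnil (hft.equiv E.toAlgEquiv.symm)
  have hmtA : SGA3x.IsMultTypeFT (CoactBr.sp R A) := IsotrivialNormal.isMultTypeFT_sp hMT
  haveI : Algebra.FinitePresentation R A :=
    RingHom.finitePresentation_algebraMap.1 ((HasRingHomProperty.Spec_iff (P := @LocallyOfFinitePresentation)).1
      (lfp_of_isMultTypeFT hmtA))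
  have hsmA₀ : Algebra.Smooth (R ⧸ J) A₀ :=
    RingHom.smooth_algebraMap.1 ((HasRingHomProperty.Spec_iff (P := @Smooth)).1 hsm₀)
  haveI : Algebra.Smooth R A := by
    haveI := hsmA₀
    exact smooth_of_mod J hnil (Algebra.Smooth.of_equiv E.toAlgEquiv.symm)
  let f : A₀ →ₐc[R ⧸ J] AA A J := E.symm.toBialgHom
  let p₀ : CoactBr.sp (R ⧸ J) (AA A J) ≅ CoactBr.sp (R ⧸ J) A₀ :=
    ⟨CoactBr.pt (f : A₀ →ₐ[R ⧸ J] AA A J), CoactBr.pt (E.toBialgHom : AA A J →ₐ[R ⧸ J] A₀),
      by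
        rw [← CoactBr.pt_comp, ← CoactBr.pt_id]
        exact congrArg CoactBr.pt (AlgHom.ext fun a => E.symm_apply_apply a),
      by
        rw [← CoactBr.pt_comp, ← CoactBr.pt_id]
        exact congrArg CoactBr.pt (AlgHom.ext fun a => E.apply_symm_apply a)⟩
  let z : CoactBr.sp (R ⧸ J) (AA A J) ⟶ H₀ := CoactBr.pt (f : A₀ →ₐ[R ⧸ J] AA A J) ≫ e₀.hom
  haveI : IsIso z.left := inferInstanceAs (IsIso ((Over.forget _).map (p₀ ≪≫ e₀).hom))
  let x : Pts G (AA A J) := theta J j₀ (AA A J) z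
  obtain ⟨ψ, hψ, hψ'⟩ := exists_algEquiv (i₀ ≪≫ e₀.symm ≪≫ p₀.symm)
  obtain ⟨φ, hφ⟩ := exists_algEquiv_lift hJ ψ
  let π : A →+* AA A J := (Algebra.TensorProduct.includeRight : A →ₐ[R] AA A J)
  have hgen : (gen J).comp (φ.symm : B →ₐ[R] A) =
      ((ψ.symm : (R ⧸ J) ⊗[R] B →ₐ[R ⧸ J] AA A J).restrictScalars R).comp Algebra.TensorProduct.includeRight := by
    refine AlgHom.ext fun b => ?_
    show gen J (φ.symm b) = ψ.symm ((1 : R ⧸ J) ⊗ₜ[R] b)
    refine ψ.injective ?_
    rw [AlgEquiv.apply_symm_apply]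
    show ψ ((1 : R ⧸ J) ⊗ₜ[R] φ.symm b) = _
    rw [← hφ, AlgEquiv.apply_symm_apply]
  let v : Pts G A := CoactBr.pt (φ.symm : B →ₐ[R] A) ≫ u
  have hv : pmap (gen J) v = x := by
    refine Over.OverMorphism.ext ?_
    show (CoactBr.pt (gen J)).left ≫ (CoactBr.pt (φ.symm : B →ₐ[R] A)).left ≫ u.left =
      𝟙 _ ≫ (fl _ G (z ≫ j₀)).left
    refine ((Category.assoc _ _ _).symm.trans ?_).trans (Category.id_comp _).symm
    rw [theta_left]
    have h1 : (CoactBr.pt (gen J)).left ≫ (CoactBr.pt (φ.symm : B →ₐ[R] A)).left =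
        (CoactBr.pt (ψ.symm : (R ⧸ J) ⊗[R] B →ₐ[R ⧸ J] AA A J)).left ≫ Spec.map (CommRingCat.ofHom
          ((Algebra.TensorProduct.includeRight : B →ₐ[R] (R ⧸ J) ⊗[R] B) : B →+* (R ⧸ J) ⊗[R] B)) := by
      refine (Spec.map_comp _ _).symm.trans (Eq.trans ?_ (Spec.map_comp _ _))
      exact congrArg (fun g => Spec.map (CommRingCat.ofHom g)) (congrArg AlgHom.toRingHom hgen)
    refine (congrArg (· ≫ u.left) h1).trans ((Category.assoc _ _ _).trans ?_)
    refine (congrArg ((CoactBr.pt (ψ.symm : (R ⧸ J) ⊗[R] B →ₐ[R ⧸ J] AA A J)).left ≫ ·) hi₀.symm).trans ?_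
    refine (Category.assoc _ _ _).symm.trans (congrArg (· ≫ j₀.left ≫ pullback.fst _ _) ?_)
    rw [hψ']
    show ((p₀.hom ≫ e₀.hom) ≫ i₀.inv).left ≫ i₀.hom.left = (p₀.hom ≫ e₀.hom).left
    rw [← Over.comp_left, Category.assoc, Iso.inv_hom_id, Category.comp_id]
  obtain ⟨w, hw, hwx⟩ := exists_monHom_of_point hj (J := J) (by rw [← hJ, pow_two]) v
    (hv.symm ▸ isHom_theta J j₀ f e₀.hom)
  rw [hv] at hwx
  have hleft : Spec.map (CommRingCat.ofHom π) ≫ w.left =
      z.left ≫ j₀.left ≫ pullback.fst G.hom (Spec.map (CommRingCat.ofHom (Ideal.Quotient.mk J))) := by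
    rw [← theta_left]
    refine Eq.trans ?_ (Category.id_comp _)
    refine Eq.trans ?_ (congrArg CommaMorphism.left hwx)
    rfl
  haveI : IsClosedImmersion (Spec.map (CommRingCat.ofHom (Ideal.Quotient.mk J))) :=
    IsClosedImmersion.spec_of_surjective _ Ideal.Quotient.mk_surjective
  haveI : IsImmersion (Spec.map (CommRingCat.ofHom π) ≫ w.left) := by
    rw [hleft]
    haveI : IsImmersion (pullback.fst G.hom (Spec.map (CommRingCat.ofHom (Ideal.Quotient.mk J)))) :=
      MorphismProperty.pullback_fst _ _ inferInstance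
    haveI : IsImmersion (j₀.left ≫ pullback.fst G.hom (Spec.map (CommRingCat.ofHom (Ideal.Quotient.mk J)))) :=
      MorphismProperty.comp_mem _ _ _ ‹IsImmersion j₀.left› ‹_›
    exact (MorphismProperty.cancel_left_of_respectsIso @IsImmersion z.left _).2 ‹_›
  have himm : IsImmersion w.left :=
    NilImmersion.isImmersion_of_mod π (surjective_includeRight J A) J hnil (ker_includeRight J A) w.left G.hom
      (Over.w w)
  haveI := himm
  refine ⟨CoactBr.sp R A, inferInstance, w, hw, Over.mono_of_mono_left w, himm, hmtA,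
    bcSpIso J A ≪≫ p₀ ≪≫ e₀, ?_⟩
  refine Over.OverMorphism.ext (pullback.hom_ext ?_ ?_)
  · show ((bcSpIso J A).hom.left ≫ z.left) ≫ j₀.left ≫ pullback.fst _ _ = _
    refine (Category.assoc _ _ _).trans ?_
    refine (congrArg ((bcSpIso J A).hom.left ≫ ·) hleft.symm).trans ?_
    refine (Category.assoc _ _ _).symm.trans ?_
    refine (congrArg (· ≫ w.left) (bcSpIso_fst J A)).trans ?_
    exact (pullback.lift_fst _ _ _).symm
  · refine Eq.trans ?_ (Over.w ((Over.pullback (Spec.map (CommRingCat.ofHom (Ideal.Quotient.mk J)))).map w)).symm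
    exact Over.w ((bcSpIso J A ≪≫ p₀ ≪≫ e₀).hom ≫ j₀)

end Groth.Agent.SubLift20
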